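import Cfsg.Agent.CoThreeStd.DC.Model
import Cfsg.Agent.CoThreeStd.Bound.M12Pres

/-!
# The homomorphism from `K₁₂ × 2` and the letters `t, x, s₁, …, s₄, e`
-/

set_option autoImplicit false

namespace Cfsg.Agent.CoThreeStd.DC.Psi

open Cfsg.Agent.CoThreeStd.DC.Eng Cfsg.Agent.CoThreeStd.DC.Model Cfsg.Agent.CoThreeStd.M12
  Cfsg.Agent.CoThreeStd.Bound

theorem bit_add : ∀ z w : Multiplicative (ZMod 2), bit (z * w) = (bit z + bit w) % 2 := by decide
theorem bit_one : bit 1 = 0 := rfl

/-- the element of order two -/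
def tau : Multiplicative (ZMod 2) := Multiplicative.ofAdd 1
theorem bit_tau : bit tau = 1 := rfl
theorem tau_sq : tau * tau = 1 := by decide
theorem one_or_tau : ∀ z : Multiplicative (ZMod 2), z = 1 ∨ z = tau := by decide

section psi

variable {H : Type*} [Group H] {K : Subgroup P12}

/-- the homomorphism -/
def psi (φ : K →* H) (t : H) (ht : t * t = 1) (hc : ∀ m, t * φ m = φ m * t) : CC K →* H where
  toFun c := φ c.1 * t ^ bit c.2
  map_one' := by
    show φ 1 * t ^ bit 1 = 1
    rw [map_one, bit_one, pow_zero, one_mul]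
  map_mul' := by
    rintro ⟨a, z⟩ ⟨b, w⟩
    show φ (a * b) * t ^ bit (z * w) = φ a * t ^ bit z * (φ b * t ^ bit w)
    have h1 : t ^ bit (z * w) = t ^ bit z * t ^ bit w := by
      rw [bit_add, ← pow_add]
      have : t ^ 2 = 1 := by rw [pow_two, ht]
      conv_rhs => rw [← Nat.mod_add_div (bit z + bit w) 2, pow_add, pow_mul, this, one_pow, mul_one]
    have h2 : t ^ bit z * φ b = φ b * t ^ bit z := by
      have : Commute t (φ b) := hc b
      exact (this.pow_left _).eq
    rw [h1, map_mul]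
    calc φ a * φ b * (t ^ bit z * t ^ bit w) = φ a * (φ b * t ^ bit z) * t ^ bit w := by group
      _ = _ := by rw [← h2]; group

variable (φ : K →* H) (t : H) (ht : t * t = 1) (hc : ∀ m, t * φ m = φ m * t)

theorem psi_one (m : K) : psi φ t ht hc (m, 1) = φ m := by
  show φ m * t ^ bit 1 = φ m
  rw [bit_one, pow_zero, mul_one]

theorem psi_tau : psi φ t ht hc (1, tau) = t := by
  show φ 1 * t ^ bit tau = t
  rw [bit_tau, map_one, one_mul, pow_one]

theorem psi_mk (m : K) (z : Multiplicative (ZMod 2)) : psi φ t ht hc (m, z) = φ m * t ^ bit z := rfl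

end psi

/-- the group `K₁₂ × 2` -/
abbrev C : Type := CC K12

/-- the coding of `K₁₂ × 2` -/
def md : Sound.Mod C := mod K12

/-- the letters `t, x, s₁, …, s₄, e` -/
def ga (q : ℕ) : C := if h : 1 ≤ q ∧ q ≤ 6 then (kl ⟨q - 1, by omega⟩, 1) else (1, tau)

/-- their codes -/
def gaN (q : ℕ) : ℕ := if h : 1 ≤ q ∧ q ≤ 6 then kt ⟨q - 1, by omega⟩ else 0x1ba9876543210

theorem cd_ga (q : ℕ) : md.cd (ga q) = gaN q := by
  unfold ga gaN
  split_ifs with h
  · have := cd_eq (K := K12) (kl ⟨q - 1, by omega⟩).2 (k_rep ⟨q - 1, by omega⟩) 1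
    rw [bit_one, Nat.mul_zero, Nat.add_zero] at this
    exact this
  · have := cd_eq (K := K12) (one_mem _) Rep.one tau
    rw [bit_tau] at this
    exact this.trans (by norm_num [oneT])

theorem ga_zero : ga 0 = (1, tau) := rfl
theorem ga_succ (i : Fin 6) : ga (i + 1) = (kl i, 1) := by
  unfold ga
  rw [dif_pos ⟨by omega, by omega⟩]
  rfl

theorem card_C : Nat.card C = 190080 := by
  rw [Nat.card_prod, card_K12, Nat.card_eq_fintype_card]
  rfl

instance : Finite C := by
  have : Finite K12 := inferInstance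
  infer_instance

theorem ga_sq (q : ℕ) : ga q * ga q = 1 := by
  unfold ga
  split_ifs with h
  · have : kl ⟨q - 1, by omega⟩ * kl ⟨q - 1, by omega⟩ = 1 := Subtype.ext (k_sq _)
    exact Prod.ext this rfl
  · exact Prod.ext (one_mul 1) tau_sq

/-- the letters generate -/
theorem closure_ga : Subgroup.closure (ga '' {q | q < 7}) = ⊤ := by
  rw [eq_top_iff]
  rintro ⟨m, z⟩ _
  have h1 : ((m, 1) : C) ∈ Subgroup.closure (ga '' {q | q < 7}) := by
    have hm : m ∈ Subgroup.closure (Set.range kl) := by rw [closure_kl]; trivial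
    have h2 : (MonoidHom.inl K12 (Multiplicative (ZMod 2))) m ∈
        (Subgroup.closure (Set.range kl)).map (MonoidHom.inl K12 (Multiplicative (ZMod 2))) := ⟨m, hm, rfl⟩
    rw [MonoidHom.map_closure] at h2
    refine Subgroup.closure_mono ?_ h2
    rintro _ ⟨_, ⟨i, rfl⟩, rfl⟩
    refine ⟨i + 1, ?_, ga_succ i⟩
    show (i : ℕ) + 1 < 7
    omega
  have h3 : ((1, z) : C) ∈ Subgroup.closure (ga '' {q | q < 7}) := by
    rcases one_or_tau z with rfl | rfl
    · exact one_mem _
    · exact Subgroup.subset_closure ⟨0, by show 0 < 7; norm_num, ga_zero⟩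
  have := mul_mem h1 h3
  rwa [Prod.mk_mul_mk, mul_one, one_mul] at this

end Cfsg.Agent.CoThreeStd.DC.Psi
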