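import Cfsg.Agent.Lib.PackMat

/-!
# Kernel engine for a double coset enumeration over `C = K₁₂ × 2` (static tables with ranks)

Elements of `C` are coded by natural numbers: twelve nibbles (images of the twelve points) and a bit at position 48.
`H` is a group with `ψ : C →* H` and `g : H`; `x i` are representatives of the double cosets.  A row table contains, for
each row `i`, slots `k < 396` (edge: `C x_i r_k g = C x_j d`) and slots `k ≥ 396` (stabiliser: `C x_i d = C x_i`), each
with a rank; a certificate proves the fact of a slot from facts of smaller rank.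
-/

set_option autoImplicit false

namespace Cfsg.Agent.CoThreeStd.DC.Eng

open Cfsg.Agent.Lib.PackMat

/-! ### kernel functions -/

/-- product of codes -/
noncomputable def mulN (a b : ℕ) : ℕ :=
  Nat.add (Nat.land (Nat.shiftRight a (Nat.land (Nat.shiftLeft b 2) 60)) 15) (Nat.mul 16 (
  Nat.add (Nat.land (Nat.shiftRight a (Nat.land (Nat.shiftRight b 2) 60)) 15) (Nat.mul 16 (
  Nat.add (Nat.land (Nat.shiftRight a (Nat.land (Nat.shiftRight b 6) 60)) 15) (Nat.mul 16 (
  Nat.add (Nat.land (Nat.shiftRight a (Nat.land (Nat.shiftRight b 10) 60)) 15) (Nat.mul 16 (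
  Nat.add (Nat.land (Nat.shiftRight a (Nat.land (Nat.shiftRight b 14) 60)) 15) (Nat.mul 16 (
  Nat.add (Nat.land (Nat.shiftRight a (Nat.land (Nat.shiftRight b 18) 60)) 15) (Nat.mul 16 (
  Nat.add (Nat.land (Nat.shiftRight a (Nat.land (Nat.shiftRight b 22) 60)) 15) (Nat.mul 16 (
  Nat.add (Nat.land (Nat.shiftRight a (Nat.land (Nat.shiftRight b 26) 60)) 15) (Nat.mul 16 (
  Nat.add (Nat.land (Nat.shiftRight a (Nat.land (Nat.shiftRight b 30) 60)) 15) (Nat.mul 16 (
  Nat.add (Nat.land (Nat.shiftRight a (Nat.land (Nat.shiftRight b 34) 60)) 15) (Nat.mul 16 (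
  Nat.add (Nat.land (Nat.shiftRight a (Nat.land (Nat.shiftRight b 38) 60)) 15) (Nat.mul 16 (
  Nat.add (Nat.land (Nat.shiftRight a (Nat.land (Nat.shiftRight b 42) 60)) 15) (Nat.mul 16 (
    Nat.xor (Nat.shiftRight a 48) (Nat.shiftRight b 48)))))))))))))))))))))))))

/-- inverse of a code -/
noncomputable def invN (b : ℕ) : ℕ :=
  Nat.add (Nat.shiftLeft 1 (Nat.land (Nat.shiftRight b 2) 60))
  (Nat.add (Nat.shiftLeft 2 (Nat.land (Nat.shiftRight b 6) 60))
  (Nat.add (Nat.shiftLeft 3 (Nat.land (Nat.shiftRight b 10) 60))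
  (Nat.add (Nat.shiftLeft 4 (Nat.land (Nat.shiftRight b 14) 60))
  (Nat.add (Nat.shiftLeft 5 (Nat.land (Nat.shiftRight b 18) 60))
  (Nat.add (Nat.shiftLeft 6 (Nat.land (Nat.shiftRight b 22) 60))
  (Nat.add (Nat.shiftLeft 7 (Nat.land (Nat.shiftRight b 26) 60))
  (Nat.add (Nat.shiftLeft 8 (Nat.land (Nat.shiftRight b 30) 60))
  (Nat.add (Nat.shiftLeft 9 (Nat.land (Nat.shiftRight b 34) 60))
  (Nat.add (Nat.shiftLeft 10 (Nat.land (Nat.shiftRight b 38) 60))
  (Nat.add (Nat.shiftLeft 11 (Nat.land (Nat.shiftRight b 42) 60))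
  (Nat.shiftLeft (Nat.shiftRight b 48) 48)))))))))))

/-- the code of `1` -/
def idN : ℕ := 0xba9876543210

/-- binary tree of rows (row literal, number of slots) -/
inductive BT where
  | leaf (r n : ℕ) : BT
  | node (l r : BT) : BT

/-- the static tables -/
structure Tabs where
  /-- rows -/
  rows : BT
  /-- transversal, 64-bit slots -/
  R : ℕ
  /-- elements of `B` -/
  B : ℕ
  /-- their conjugates by `g` -/
  F : ℕ
  /-- relator constants -/
  W : ℕ
  /-- exponents of relators minus one, 4-bit slots -/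
  N : ℕ
  /-- parents, 20-bit slots (`p * 2048 + q * 2 + dir`) -/
  P : ℕ

/-- 64-bit slot -/
noncomputable def at64 (X k : ℕ) : ℕ := Nat.land (Nat.shiftRight X (Nat.mul 64 k)) 0xffffffffffffffff

/-- 72-bit slot -/
noncomputable def slot (r k : ℕ) : ℕ := Nat.land (Nat.shiftRight r (Nat.mul 72 k)) 0xffffffffffffffffff

/-- look up a row -/
noncomputable def look (t : BT) : ℕ → (ℕ → ℕ → Bool) → Bool :=
  BT.rec (motive := fun _ => ℕ → (ℕ → ℕ → Bool) → Bool)
    (fun r n i K => cond (Nat.beq i 0) (K r n) false)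
    (fun _ _ ihl ihr i K => cond (Nat.beq (Nat.land i 1) 0) (ihl (Nat.shiftRight i 1) K)
      (ihr (Nat.shiftRight i 1) K)) t

/-- use the fact `(i, k)` of rank smaller than `q` -/
noncomputable def use (T : Tabs) (q i k : ℕ) (K : ℕ → ℕ → Bool) : Bool :=
  look T.rows i fun r n => cond (Nat.ble (Nat.add k 1) n)
    (force (slot r k) fun s => cond (Nat.ble (Nat.add (Nat.shiftRight s 56) 1) q)
      (force (Nat.land (Nat.shiftRight s 49) 127) fun j =>
        force (Nat.land s 0x1ffffffffffff) fun d => K j d) false) false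

/-- use an edge fact -/
noncomputable def useE (T : Tabs) (q i k : ℕ) (K : ℕ → ℕ → Bool) : Bool :=
  cond (Nat.ble k 395) (use T q i k K) false

/-- use a stabiliser fact -/
noncomputable def useS (T : Tabs) (q i l : ℕ) (K : ℕ → Bool) : Bool := use T q i (Nat.add 396 l) fun _ s => K s

/-- element of `B` and its conjugate -/
noncomputable def bget (T : Tabs) (b : ℕ) (K : ℕ → ℕ → Bool) : Bool :=
  cond (Nat.ble b 479) (force (at64 T.B b) fun β => force (at64 T.F b) fun φ => K β φ) false

/-- element of the transversal -/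
noncomputable def rget (T : Tabs) (k : ℕ) (K : ℕ → Bool) : Bool :=
  cond (Nat.ble k 395) (force (at64 T.R k) K) false

/-- element of `C` given by a pair -/
noncomputable def pget (T : Tabs) (k b : ℕ) (K : ℕ → Bool) : Bool :=
  rget T k fun r => bget T b fun β _ => force (mulN r β) K

/-- right multiplication by a constant -/
noncomputable def mulW (c w : ℕ) (K : ℕ → Bool) : Bool := cond (Nat.beq w idN) (K c) (force (mulN c w) K)

/-- the edge from `(i, c)`, where `c = r_k β_b` -/
noncomputable def edge (T : Tabs) (q i c k b : ℕ) (K : ℕ → ℕ → Bool) : Bool :=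
  rget T k fun r => bget T b fun β φ => cond (Nat.beq c (mulN r β))
    (cond (Nat.beq i 0) (K 1 φ) (useE T q i k fun j d => force (mulN d φ) fun d' => K j d')) false

/-- `n` moves `c ↦ (c w) g` -/
noncomputable def walk (T : Tabs) (q w n : ℕ) : ℕ → ℕ → ℕ → (ℕ → ℕ → Bool) → Bool :=
  Nat.rec (motive := fun _ => ℕ → ℕ → ℕ → (ℕ → ℕ → Bool) → Bool) (fun _ i c K => K i c)
    (fun _ ih s i c K => mulW c w fun c => force (Nat.land s 511) fun k =>
      force (Nat.land (Nat.shiftRight s 9) 511) fun b => edge T q i c k b fun j d =>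
      force (Nat.shiftRight s 18) fun s => ih s j d K) n

/-- `n` moves `c ↦ (c g) w` -/
noncomputable def loop (T : Tabs) (q w n : ℕ) : ℕ → ℕ → ℕ → (ℕ → ℕ → Bool) → Bool :=
  Nat.rec (motive := fun _ => ℕ → ℕ → ℕ → (ℕ → ℕ → Bool) → Bool) (fun _ i c K => K i c)
    (fun _ ih s i c K => force (Nat.land s 511) fun k =>
      force (Nat.land (Nat.shiftRight s 9) 511) fun b => edge T q i c k b fun j d => mulW d w fun d =>
      force (Nat.shiftRight s 18) fun s => ih s j d K) n

/-- kind 0: a relator gives a new edge -/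
noncomputable def kind0 (T : Tabs) (q i0 k0 j0 d0 s : ℕ) : Bool :=
  force (Nat.land s 3) fun e => force (Nat.land (Nat.shiftRight s 2) 511) fun kv =>
  force (Nat.land (Nat.shiftRight s 11) 511) fun bv => force (Nat.land (Nat.shiftRight s 20) 511) fun b2 =>
  force (Nat.shiftRight s 29) fun s =>
  force (at64 T.W e) fun w => force (Nat.land (Nat.shiftRight T.N (Nat.mul 4 e)) 15) fun n =>
  pget T kv bv fun c0 => bget T b2 fun β2 φ2 => cond (Nat.beq d0 (mulN c0 φ2))
    (walk T q w n s j0 c0 fun i c => cond (Nat.beq i i0)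
      (mulW c w fun c => cond (Nat.ble k0 395) (Nat.beq (mulN c β2) (at64 T.R k0)) false) false) false

/-- kind 1: a relator gives a stabiliser element -/
noncomputable def kind1 (T : Tabs) (q i0 d0 s : ℕ) : Bool :=
  force (Nat.land s 3) fun e => force (Nat.land (Nat.shiftRight s 2) 511) fun ks =>
  force (Nat.land (Nat.shiftRight s 11) 511) fun bs => force (Nat.land (Nat.shiftRight s 20) 511) fun kv =>
  force (Nat.land (Nat.shiftRight s 29) 511) fun bv => force (Nat.shiftRight s 38) fun s =>
  force (at64 T.W e) fun w => force (Nat.land (Nat.shiftRight T.N (Nat.mul 4 e)) 15) fun n =>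
  pget T ks bs fun c1 => cond (Nat.beq d0 c1) (pget T kv bv fun c0 =>
    loop T q w (Nat.succ n) s i0 c0 fun i c => cond (Nat.beq i i0) (Nat.beq (mulN d0 c0) c) false) false

/-- kind 3: propagation by the stabiliser -/
noncomputable def kind3 (T : Tabs) (q i0 k0 j0 d0 s : ℕ) : Bool :=
  force (Nat.land s 511) fun k => force (Nat.land (Nat.shiftRight s 9) 511) fun l =>
  force (Nat.land (Nat.shiftRight s 18) 511) fun b =>
  rget T k fun r => useS T q i0 l fun c => force (mulN c r) fun e => bget T b fun β φ =>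
  cond (Nat.beq (mulN e β) (at64 T.R k0)) (cond (Nat.ble k0 395)
    (useE T q i0 k fun j d => cond (Nat.beq j0 j) (Nat.beq d0 (mulN d φ)) false) false) false

/-- kind 4: product of stabiliser elements -/
noncomputable def kind4 (T : Tabs) (q i0 d0 s : ℕ) : Bool :=
  force (Nat.land s 511) fun l => force (Nat.land (Nat.shiftRight s 9) 511) fun l2 =>
  useS T q i0 l fun c => useS T q i0 l2 fun d => Nat.beq d0 (mulN c d)

/-- kind 5: transport of a stabiliser element along an edge -/
noncomputable def kind5 (T : Tabs) (q i0 d0 s : ℕ) : Bool :=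
  force (Nat.land s 511) fun ks => force (Nat.land (Nat.shiftRight s 9) 511) fun bs =>
  force (Nat.land (Nat.shiftRight s 18) 127) fun i => force (Nat.land (Nat.shiftRight s 25) 511) fun k =>
  force (Nat.land (Nat.shiftRight s 34) 511) fun k2 => force (Nat.land (Nat.shiftRight s 43) 511) fun l =>
  force (Nat.land (Nat.shiftRight s 52) 511) fun b =>
  pget T ks bs fun c1 => cond (Nat.beq d0 c1) (rget T k fun r => rget T k2 fun r2 => bget T b fun β φ =>
    useS T q i l fun c => cond (Nat.beq (mulN (mulN c r) β) r2) (useE T q i k fun j d => useE T q i k2 fun j2 d2 =>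
      cond (Nat.beq j i0) (cond (Nat.beq j2 i0) (Nat.beq (mulN d0 (mulN d φ)) d2) false) false) false) false

/-- kind 6: transport of a stabiliser element backwards along an edge -/
noncomputable def kind6 (T : Tabs) (q i0 d0 s : ℕ) : Bool :=
  force (Nat.land s 511) fun ks => force (Nat.land (Nat.shiftRight s 9) 511) fun bs =>
  force (Nat.land (Nat.shiftRight s 18) 127) fun j => force (Nat.land (Nat.shiftRight s 25) 511) fun k =>
  force (Nat.land (Nat.shiftRight s 34) 511) fun k2 => force (Nat.land (Nat.shiftRight s 43) 511) fun l =>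
  force (Nat.land (Nat.shiftRight s 52) 511) fun b =>
  pget T ks bs fun c1 => cond (Nat.beq d0 c1) (rget T k fun r => rget T k2 fun r2 => bget T b fun β φ =>
    cond (Nat.beq (mulN (mulN d0 r) β) r2) (useE T q i0 k fun j1 d => useE T q i0 k2 fun j2 d2 =>
      cond (Nat.beq j1 j) (cond (Nat.beq j2 j) (cond (Nat.beq j 0) true
        (useS T q j l fun c => Nat.beq (mulN c (mulN d φ)) d2)) false) false) false) false

/-- the parent of `j` is `(p, q, dir)` -/
noncomputable def isPar (T : Tabs) (j p q e : ℕ) : Bool :=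
  cond (Nat.ble (Nat.add p 1) j) (cond (Nat.ble q 395)
    (Nat.beq (Nat.land (Nat.shiftRight T.P (Nat.mul 20 j)) 0xfffff) (Nat.add (Nat.mul p 2048)
      (Nat.add (Nat.mul q 2) e))) false) false

/-- kind 9: definition -/
noncomputable def kind9 (T : Tabs) (i0 k0 j0 d0 : ℕ) : Bool :=
  cond (Nat.beq d0 idN) (isPar T j0 i0 k0 0) false

/-- kind 10: definition with `g⁻¹` -/
noncomputable def kind10 (T : Tabs) (i0 k0 j0 d0 s : ℕ) : Bool :=
  cond (Nat.beq k0 0) (cond (Nat.beq d0 (at64 T.R s)) (isPar T i0 j0 s 1) false) false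

/-- kind 7: stabiliser of the first row -/
noncomputable def kind7 (T : Tabs) (i0 d0 s : ℕ) : Bool :=
  cond (Nat.beq i0 1) (bget T s fun _ φ => Nat.beq d0 φ) false

/-- select by kind: edges -/
noncomputable def selE (e : ℕ) (a3 a0 a9 a10 : Bool) : Bool :=
  cond (Nat.beq e 3) a3 (cond (Nat.beq e 0) a0 (cond (Nat.beq e 9) a9 (cond (Nat.beq e 10) a10 false)))

/-- select by kind: stabilisers -/
noncomputable def selS (e : ℕ) (a4 a1 a5 a6 a7 a8 : Bool) : Bool :=
  cond (Nat.beq e 4) a4 (cond (Nat.beq e 1) a1 (cond (Nat.beq e 5) a5 (cond (Nat.beq e 6) a6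
    (cond (Nat.beq e 7) a7 (cond (Nat.beq e 8) a8 false)))))

/-- the certificate number `s` proves the fact of slot `(i, k)`; `r` is the row literal of `i` -/
noncomputable def chk (T : Tabs) (i k r s : ℕ) : Bool :=
  force (slot r k) fun z => force (Nat.shiftRight z 56) fun q => force (Nat.land (Nat.shiftRight z 49) 127) fun j =>
  force (Nat.land z 0x1ffffffffffff) fun d => force (Nat.land s 15) fun e => force (Nat.shiftRight s 4) fun s =>
  cond (Nat.ble k 395)
    (cond (Nat.ble j 60) (selE e (kind3 T q i k j d s) (kind0 T q i k j d s) (kind9 T i k j d)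
      (kind10 T i k j d s)) false)
    (selS e (kind4 T q i d s) (kind1 T q i d s) (kind5 T q i d s) (kind6 T q i d s) (kind7 T i d s)
      (Nat.beq d idN))

/-- a row, from slot `k` on -/
noncomputable def chkRow (T : Tabs) (i r : ℕ) (l : List ℕ) : ℕ → Bool :=
  List.rec (motive := fun _ => ℕ → Bool) (fun _ => true) (fun s _ ih k => cond (chk T i k r s)
    (force (Nat.add k 1) ih) false) l

/-- a row -/
noncomputable def rowOK (T : Tabs) (i : ℕ) (l : List ℕ) : Bool :=
  look T.rows i fun r n => cond (Nat.beq l.length n) (cond (Nat.ble 396 n) (chkRow T i r l 0) false) false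

end Cfsg.Agent.CoThreeStd.DC.Eng
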