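import Cfsg.Agent.CoThreeStd.DC.Psi
import Cfsg.Agent.CoThreeStd.Bound.Tabs

/-!
# The relator constants `1, es, ρ, ρ⁻¹`
-/

set_option autoImplicit false

namespace Cfsg.Agent.CoThreeStd.DC.HW

open Cfsg.Agent.CoThreeStd.DC.Eng Cfsg.Agent.CoThreeStd.DC.Model Cfsg.Agent.CoThreeStd.M12
  Cfsg.Agent.CoThreeStd.Bound Cfsg.Agent.CoThreeStd.DC.Psi

/-- the word of `ρ` -/
def rhoK : List (Fin 6) := [2, 1, 3, 5, 3, 2, 1, 5, 2, 5, 3, 2, 4, 5, 3]

/-- codes of words -/
theorem cd_word (w : List (Fin 6)) : md.cd ((w.map kl).prod, 1) = kwt w := by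
  have h1 : ((w.map kl).prod : K12) = ⟨kel w, kel_mem w⟩ := Subtype.ext (kl_prod w)
  rw [h1]
  have := cd_eq (K := K12) (kel_mem w) (kel_rep w) 1
  rw [bit_one, Nat.mul_zero, Nat.add_zero] at this
  exact this

theorem w1 : kwt [5, 4] = at64 Data.tabs.W 1 := by decide +kernel
theorem w2 : kwt rhoK = at64 Data.tabs.W 2 := by decide +kernel
theorem w3 : kwt rhoK.reverse = at64 Data.tabs.W 3 := by decide +kernel
theorem w0 : kwt [] = at64 Data.tabs.W 0 := by decide +kernel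

theorem e0 : Sound.expo Data.tabs 0 + 1 = 3 := by decide +kernel
theorem e1 : Sound.expo Data.tabs 1 + 1 = 3 := by decide +kernel
theorem e2 : Sound.expo Data.tabs 2 + 1 = 3 := by decide +kernel
theorem e3 : Sound.expo Data.tabs 3 + 1 = 7 := by decide +kernel

theorem reverse_prod (w : List (Fin 6)) : (w.reverse.map kl).prod = ((w.map kl).prod)⁻¹ := by
  induction w with
  | nil => simp
  | cons k w ih =>
    have h1 : (kl k)⁻¹ = kl k := by
      rw [inv_eq_iff_mul_eq_one]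
      exact Subtype.ext (k_sq k)
    have h2 : ((k :: w).map kl).prod = kl k * (w.map kl).prod := by rw [List.map_cons, List.prod_cons]
    have h3 : (([k] : List (Fin 6)).map kl).prod = kl k := by simp
    rw [List.reverse_cons, List.map_append, List.prod_append, ih, h2, h3, mul_inv_rev, h1]

variable {H : Type*} [Group H] (ψ : C →* H) (g : H)

/-- the field `hW` -/
theorem hW (h0 : g ^ 3 = 1) (h1 : (ψ (kl 5 * kl 4, 1) * g) ^ 3 = 1)
    (h2 : (ψ ((rhoK.map kl).prod, 1) * g) ^ 3 = 1) (h3 : (ψ (((rhoK.map kl).prod)⁻¹, 1) * g) ^ 7 = 1) :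
    ∀ e ≤ 3, ∃ w : C, md.cd w = at64 Data.tabs.W e ∧ (ψ w * g) ^ (Sound.expo Data.tabs e + 1) = 1 := by
  intro e he
  have : e = 0 ∨ e = 1 ∨ e = 2 ∨ e = 3 := by omega
  rcases this with rfl | rfl | rfl | rfl
  · refine ⟨_, (cd_word []).trans w0, ?_⟩
    rw [e0]
    show (ψ (1, 1) * g) ^ 3 = 1
    rw [show ((1, 1) : C) = 1 from rfl, map_one, one_mul, h0]
  · refine ⟨_, (cd_word [5, 4]).trans w1, ?_⟩
    rw [e1]
    have : (([5, 4] : List (Fin 6)).map kl).prod = kl 5 * kl 4 := by simp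
    rw [this, h1]
  · refine ⟨_, (cd_word rhoK).trans w2, ?_⟩
    rw [e2, h2]
  · refine ⟨_, (cd_word rhoK.reverse).trans w3, ?_⟩
    rw [e3, reverse_prod, h3]

end Cfsg.Agent.CoThreeStd.DC.HW
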