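import Cfsg.Agent.CoThreeStd.DC.Sound
import Cfsg.Agent.CoThreeStd.M12.Tab

/-!
# The model of `C = K × 2` (`K` a group of permutations of twelve points)
-/

set_option autoImplicit false

namespace Cfsg.Agent.CoThreeStd.DC.Model

open Cfsg.Agent.CoThreeStd.DC.Eng Cfsg.Agent.CoThreeStd.DC.Sound Cfsg.Agent.CoThreeStd.M12

theorem land_fifteen (n : ℕ) : Nat.land n 15 = n % 16 := Nat.and_two_pow_sub_one_eq_mod n 4

theorem land_sixty (n : ℕ) : Nat.land n 60 = 4 * (n / 4 % 16) := by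
  have h1 : n / 4 % 16 = (n >>> 2) &&& 15 := by
    rw [Nat.shiftRight_eq_div_pow]
    exact (Nat.and_two_pow_sub_one_eq_mod _ 4).symm
  have h2 : 4 * (n / 4 % 16) = ((n >>> 2) &&& 15) <<< 2 := by
    rw [h1, Nat.shiftLeft_eq]; ring
  rw [h2]
  show n &&& 60 = _
  apply Nat.eq_of_testBit_eq
  intro i
  rw [show (60 : ℕ) = 15 <<< 2 from rfl]
  simp only [Nat.testBit_and, Nat.testBit_shiftLeft, Nat.testBit_shiftRight]
  by_cases hi : 2 ≤ i
  · have : 2 + (i - 2) = i := by omega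
    simp [hi, this]
  · simp [hi]

theorem sr (a m : ℕ) : Nat.land (Nat.shiftRight a (4 * m)) 15 = dg a m := by
  rw [land_fifteen]
  show (a >>> (4 * m)) % 16 = a / 16 ^ m % 16
  rw [Nat.shiftRight_eq_div_pow, pow_mul, show (2 : ℕ) ^ 4 = 16 by norm_num]

theorem sl0 (b : ℕ) : Nat.land (Nat.shiftLeft b 2) 60 = 4 * dg b 0 := by
  rw [land_sixty]
  show 4 * ((b <<< 2) / 4 % 16) = 4 * (b / 16 ^ 0 % 16)
  rw [Nat.shiftLeft_eq, pow_zero, Nat.div_one]
  congr 2
  omega

theorem slk (b m : ℕ) : Nat.land (Nat.shiftRight b (4 * m + 2)) 60 = 4 * dg b (m + 1) := by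
  rw [land_sixty]
  show 4 * ((b >>> (4 * m + 2)) / 4 % 16) = 4 * (b / 16 ^ (m + 1) % 16)
  rw [Nat.shiftRight_eq_div_pow, Nat.div_div_eq_div_mul]
  have : 2 ^ (4 * m + 2) * 4 = 16 ^ (m + 1) := by
    rw [pow_add, pow_mul, show (2 : ℕ) ^ 4 = 16 by norm_num, pow_succ 16, mul_assoc]
    norm_num
  rw [this]

/-- `mulN` in terms of digits -/
theorem mulN_eq (a b : ℕ) : mulN a b = pk (dg a (dg b 0)) (dg a (dg b 1)) (dg a (dg b 2)) (dg a (dg b 3))
    (dg a (dg b 4)) (dg a (dg b 5)) (dg a (dg b 6)) (dg a (dg b 7)) (dg a (dg b 8)) (dg a (dg b 9))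
    (dg a (dg b 10)) (dg a (dg b 11)) + 16 ^ 12 * Nat.xor (Nat.shiftRight a 48) (Nat.shiftRight b 48) := by
  have k0 : Nat.land (Nat.shiftRight b 2) 60 = 4 * dg b 1 := slk b 0
  have k1 : Nat.land (Nat.shiftRight b 6) 60 = 4 * dg b 2 := slk b 1
  have k2 : Nat.land (Nat.shiftRight b 10) 60 = 4 * dg b 3 := slk b 2
  have k3 : Nat.land (Nat.shiftRight b 14) 60 = 4 * dg b 4 := slk b 3
  have k4 : Nat.land (Nat.shiftRight b 18) 60 = 4 * dg b 5 := slk b 4
  have k5 : Nat.land (Nat.shiftRight b 22) 60 = 4 * dg b 6 := slk b 5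
  have k6 : Nat.land (Nat.shiftRight b 26) 60 = 4 * dg b 7 := slk b 6
  have k7 : Nat.land (Nat.shiftRight b 30) 60 = 4 * dg b 8 := slk b 7
  have k8 : Nat.land (Nat.shiftRight b 34) 60 = 4 * dg b 9 := slk b 8
  have k9 : Nat.land (Nat.shiftRight b 38) 60 = 4 * dg b 10 := slk b 9
  have k10 : Nat.land (Nat.shiftRight b 42) 60 = 4 * dg b 11 := slk b 10
  unfold mulN
  rw [sl0, k0, k1, k2, k3, k4, k5, k6, k7, k8, k9, k10]
  simp only [sr]
  generalize Nat.xor (Nat.shiftRight a 48) (Nat.shiftRight b 48) = z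
  generalize dg a (dg b 0) = x0
  generalize dg a (dg b 1) = x1
  generalize dg a (dg b 2) = x2
  generalize dg a (dg b 3) = x3
  generalize dg a (dg b 4) = x4
  generalize dg a (dg b 5) = x5
  generalize dg a (dg b 6) = x6
  generalize dg a (dg b 7) = x7
  generalize dg a (dg b 8) = x8
  generalize dg a (dg b 9) = x9
  generalize dg a (dg b 10) = x10
  generalize dg a (dg b 11) = x11
  simp only [Nat.add_eq, Nat.mul_eq]
  unfold pk
  ring

theorem dg_add (s u i : ℕ) (hi : i < 12) : dg (s + 16 ^ 12 * u) i = dg s i := by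
  unfold dg
  have h : 16 ^ 12 * u = 16 ^ i * (16 * (16 ^ (11 - i) * u)) := by
    have : (16 : ℕ) ^ 12 = 16 ^ i * (16 * 16 ^ (11 - i)) := by
      rw [← pow_succ', ← pow_add]
      congr 1
      omega
    rw [this]; ring
  rw [h, Nat.add_mul_div_left _ _ (by positivity), Nat.add_mul_mod_self_left]

theorem top_add {s u : ℕ} (hs : s < 16 ^ 12) : Nat.shiftRight (s + 16 ^ 12 * u) 48 = u := by
  show (s + 16 ^ 12 * u) >>> 48 = u
  rw [Nat.shiftRight_eq_div_pow, show (2 : ℕ) ^ 48 = 16 ^ 12 by norm_num, Nat.add_mul_div_left _ _ (by positivity),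
    Nat.div_eq_of_lt hs, zero_add]

/-- product of codes -/
theorem mulN_rep {x y : P12} {s t u v : ℕ} (hx : Rep x s) (hy : Rep y t) :
    mulN (s + 16 ^ 12 * u) (t + 16 ^ 12 * v) = mulT s t + 16 ^ 12 * Nat.xor u v := by
  rw [mulN_eq, top_add hx.lt, top_add hy.lt]
  have hl : ∀ i : ℕ, (hi : i < 12) → dg (s + 16 ^ 12 * u) (dg (t + 16 ^ 12 * v) i) = dg s (dg t i) := by
    intro i hi
    rw [dg_add t v i hi, dg_add s u]
    rw [hy.dg ⟨i, hi⟩]
    exact (y ⟨i, hi⟩).2
  rw [hl 0 (by norm_num), hl 1 (by norm_num), hl 2 (by norm_num), hl 3 (by norm_num), hl 4 (by norm_num),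
    hl 5 (by norm_num), hl 6 (by norm_num), hl 7 (by norm_num), hl 8 (by norm_num), hl 9 (by norm_num),
    hl 10 (by norm_num), hl 11 (by norm_num)]
  rfl

/-- the table of a permutation -/
def tab (x : P12) : ℕ := pk (x 0) (x 1) (x 2) (x 3) (x 4) (x 5) (x 6) (x 7) (x 8) (x 9) (x 10) (x 11)

theorem tab_rep (x : P12) : Rep x (tab x) := by
  have hf : ∀ i, (fun i : ℕ => if h : i < 12 then ((x ⟨i, h⟩ : Fin 12) : ℕ) else 0) i < 16 := by
    intro i
    dsimp only
    split_ifs with h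
    · have := (x ⟨i, h⟩).2; omega
    · norm_num
  constructor
  · intro i
    have := dg_pk (fun i : ℕ => if h : i < 12 then ((x ⟨i, h⟩ : Fin 12) : ℕ) else 0) hf i i.2
    rw [dif_pos i.2] at this
    exact this
  · exact pk_lt (fun i : ℕ => if h : i < 12 then ((x ⟨i, h⟩ : Fin 12) : ℕ) else 0) hf

/-- the group `K × 2` -/
abbrev CC (K : Subgroup P12) : Type := K × Multiplicative (ZMod 2)

/-- the bit of an element of order at most two -/
def bit (z : Multiplicative (ZMod 2)) : ℕ := (Multiplicative.toAdd z).val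

theorem bit_mul : ∀ z w : Multiplicative (ZMod 2), bit (z * w) = Nat.xor (bit z) (bit w) := by decide

theorem bit_inj : ∀ z w : Multiplicative (ZMod 2), bit z = bit w → z = w := by decide

/-- the code of an element -/
def code {K : Subgroup P12} (c : CC K) : ℕ := tab (c.1 : P12) + 16 ^ 12 * bit c.2

theorem code_mk {K : Subgroup P12} (a : K) (z : Multiplicative (ZMod 2)) :
    code ((a, z) : CC K) = tab (a : P12) + 16 ^ 12 * bit z := rfl

theorem tab_mul (x y : P12) : mulT (tab x) (tab y) = tab (x * y) :=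
  (((tab_rep x).mul (tab_rep y)).eq_iff (tab_rep _)).1 rfl

attribute [local irreducible] mulN tab mulT

/-- the coding -/
def mod (K : Subgroup P12) : Sound.Mod (CC K) where
  cd := code
  inj := by
    rintro ⟨a, z⟩ ⟨b, w⟩ h
    have h1 : tab (a : P12) + 16 ^ 12 * bit z = tab (b : P12) + 16 ^ 12 * bit w := h
    have ha := (tab_rep (a : P12)).lt
    have hb := (tab_rep (b : P12)).lt
    have h2 : tab (a : P12) = tab (b : P12) := by
      have := congrArg (· % 16 ^ 12) h1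
      simp only [Nat.add_mul_mod_self_left] at this
      rwa [Nat.mod_eq_of_lt ha, Nat.mod_eq_of_lt hb] at this
    have h3 : bit z = bit w := by
      rw [h2] at h1
      have := Nat.add_left_cancel h1
      exact Nat.eq_of_mul_eq_mul_left (by positivity) this
    have h4 : (a : P12) = b := ((tab_rep _).eq_iff (tab_rep _)).2 h2
    exact Prod.ext (Subtype.ext h4) (bit_inj _ _ h3)
  mul := by
    rintro ⟨a, z⟩ ⟨b, w⟩
    rw [code_mk, code_mk, Prod.mk_mul_mk, code_mk, mulN_rep (tab_rep (a : P12)) (tab_rep (b : P12)), bit_mul,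
      tab_mul]
    rfl
  one := by
    show tab ((1 : K) : P12) + 16 ^ 12 * bit 1 = idN
    have : tab (1 : P12) = oneT := ((tab_rep 1).eq_iff Rep.one).1 rfl
    rw [show ((1 : K) : P12) = 1 from rfl, this]
    rfl

theorem cd_eq {K : Subgroup P12} {x : P12} (hx : x ∈ K) {s : ℕ} (h : Rep x s) (z : Multiplicative (ZMod 2)) :
    (mod K).cd (⟨x, hx⟩, z) = s + 16 ^ 12 * bit z := by
  show tab x + 16 ^ 12 * bit z = _
  rw [((tab_rep x).eq_iff h).1 rfl]

end Cfsg.Agent.CoThreeStd.DC.Model
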