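import Cfsg.Agent.CoThreeStd.DC.Eng
import Mathlib.GroupTheory.Coset.Basic
import Mathlib.Tactic.Group

/-!
# Soundness of the double coset certificate checker
-/

set_option autoImplicit false

namespace Cfsg.Agent.CoThreeStd.DC.Sound

open Cfsg.Agent.Lib.PackMat Cfsg.Agent.CoThreeStd.DC.Eng

attribute [local irreducible] mulN idN at64 slot

theorem cond_true_of {b c : Bool} (h : cond b c false = true) : b = true ∧ c = true := by
  cases b
  · exact absurd h (by simp)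
  · exact ⟨rfl, h⟩

/-- coding of a group by natural numbers -/
structure Mod (C : Type*) [Group C] where
  /-- the code -/
  cd : C → ℕ
  inj : Function.Injective cd
  mul : ∀ a b, mulN (cd a) (cd b) = cd (a * b)
  one : cd 1 = idN

/-- rows of a tree -/
def find : BT → ℕ → Option (ℕ × ℕ)
  | .leaf r n, i => if i = 0 then some (r, n) else none
  | .node l r, i => if Nat.land i 1 = 0 then find l (Nat.shiftRight i 1) else find r (Nat.shiftRight i 1)

theorem look_leaf (r n i : ℕ) (K : ℕ → ℕ → Bool) : look (.leaf r n) i K = cond (Nat.beq i 0) (K r n) false := rfl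
theorem look_node (l r : BT) (i : ℕ) (K : ℕ → ℕ → Bool) : look (.node l r) i K =
    cond (Nat.beq (Nat.land i 1) 0) (look l (Nat.shiftRight i 1) K) (look r (Nat.shiftRight i 1) K) := rfl

theorem look_sound {t : BT} {i : ℕ} {K : ℕ → ℕ → Bool} (h : look t i K = true) :
    ∃ r n, find t i = some (r, n) ∧ K r n = true := by
  induction t generalizing i with
  | leaf r n =>
    rw [look_leaf] at h
    obtain ⟨h1, h2⟩ := cond_true_of h
    have := Nat.eq_of_beq_eq_true h1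
    exact ⟨r, n, by rw [find, if_pos this], h2⟩
  | node l r ihl ihr =>
    rw [look_node] at h
    cases hb : Nat.beq (Nat.land i 1) 0 with
    | true =>
      rw [hb] at h
      obtain ⟨r', n', h1, h2⟩ := ihl h
      exact ⟨r', n', by rw [find, if_pos (Nat.eq_of_beq_eq_true hb)]; exact h1, h2⟩
    | false =>
      rw [hb] at h
      obtain ⟨r', n', h1, h2⟩ := ihr h
      exact ⟨r', n', by rw [find, if_neg (Nat.ne_of_beq_eq_false hb)]; exact h1, h2⟩

/-- exponent -/
noncomputable def expo (T : Tabs) (e : ℕ) : ℕ := Nat.land (Nat.shiftRight T.N (Nat.mul 4 e)) 15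

theorem expo_eq (T : Tabs) (e : ℕ) : Nat.land (Nat.shiftRight T.N (Nat.mul 4 e)) 15 = expo T e := rfl

section Sem

variable {C H : Type*} [Group C] [Group H]

/-- two elements are in the same coset of the image of `ψ` -/
def Rl (ψ : C →* H) (a b : H) : Prop := a * b⁻¹ ∈ ψ.range

variable {ψ : C →* H} {a b c h : H}

theorem Rl.refl (a : H) : Rl ψ a a := by unfold Rl; rw [mul_inv_cancel]; exact one_mem _
theorem Rl.symm (h : Rl ψ a b) : Rl ψ b a := by
  unfold Rl at *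
  have := inv_mem h
  rwa [mul_inv_rev, inv_inv] at this
theorem Rl.trans (h : Rl ψ a b) (h' : Rl ψ b c) : Rl ψ a c := by
  unfold Rl at *
  have := mul_mem h h'
  rwa [mul_assoc, inv_mul_cancel_left] at this
theorem Rl.mul (h' : Rl ψ a b) (h : H) : Rl ψ (a * h) (b * h) := by
  unfold Rl at *
  have : a * h * (b * h)⁻¹ = a * b⁻¹ := by group
  rwa [this]
theorem Rl.cancel (h' : Rl ψ (a * h) (b * h)) : Rl ψ a b := by
  unfold Rl at *
  have : a * h * (b * h)⁻¹ = a * b⁻¹ := by group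
  rwa [this] at h'
theorem Rl.left (c : C) (a : H) : Rl ψ (ψ c * a) a := by
  unfold Rl
  rw [mul_inv_cancel_right]
  exact ⟨c, rfl⟩

/-- the data needed for the semantics -/
structure Ctx (M : Mod C) (T : Tabs) (ψ : C →* H) (g : H) (x : ℕ → H) (rr : ℕ → C) : Prop where
  hR : ∀ k ≤ 395, M.cd (rr k) = at64 T.R k
  hB : ∀ b ≤ 479, ∃ β φ : C, M.cd β = at64 T.B b ∧ M.cd φ = at64 T.F b ∧ ψ β * g = g * ψ φ
  hW : ∀ e ≤ 3, ∃ w : C, M.cd w = at64 T.W e ∧ (ψ w * g) ^ (expo T e + 1) = 1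
  x0 : x 0 = 1
  x1 : x 1 = g
  xp : ∀ j p q e, e ≤ 1 → isPar T j p q e = true → x j = x p * ψ (rr q) * (if e = 0 then g else g⁻¹)

/-- meaning of an edge fact -/
def EF (M : Mod C) (ψ : C →* H) (g : H) (x : ℕ → H) (rr : ℕ → C) (i k j d : ℕ) : Prop :=
  ∃ c : C, M.cd c = d ∧ Rl ψ (x i * ψ (rr k) * g) (x j * ψ c)

/-- meaning of a stabiliser fact -/
def SF (M : Mod C) (ψ : C →* H) (x : ℕ → H) (i d : ℕ) : Prop :=
  ∃ c : C, M.cd c = d ∧ Rl ψ (x i * ψ c) (x i)

/-- meaning of a slot -/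
def FactOf (M : Mod C) (ψ : C →* H) (g : H) (x : ℕ → H) (rr : ℕ → C) (i k j d : ℕ) : Prop :=
  (k ≤ 395 → EF M ψ g x rr i k j d) ∧ (395 < k → SF M ψ x i d)

/-- all facts of rank below `q` -/
def Known (M : Mod C) (T : Tabs) (ψ : C →* H) (g : H) (x : ℕ → H) (rr : ℕ → C) (q : ℕ) : Prop :=
  ∀ i r n k, find T.rows i = some (r, n) → k < n → Nat.shiftRight (slot r k) 56 < q →
    FactOf M ψ g x rr i k (Nat.land (Nat.shiftRight (slot r k) 49) 127) (Nat.land (slot r k) 0x1ffffffffffff)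

/-- the vertex `(i, c)` is the coset of `h` -/
def St (M : Mod C) (ψ : C →* H) (x : ℕ → H) (i c : ℕ) (h : H) : Prop :=
  ∃ a : C, M.cd a = c ∧ Rl ψ (x i * ψ a) h

variable {M : Mod C} {T : Tabs} {g : H} {x : ℕ → H} {rr : ℕ → C}

theorem use_sound {q i k : ℕ} {K : ℕ → ℕ → Bool} (hq : Known M T ψ g x rr q) (h : use T q i k K = true) :
    ∃ j d, FactOf M ψ g x rr i k j d ∧ K j d = true := by
  unfold use at h
  obtain ⟨r, n, h1, h2⟩ := look_sound h
  obtain ⟨h3, h4⟩ := cond_true_of h2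
  simp only [force_eq] at h4
  obtain ⟨h5, h6⟩ := cond_true_of h4
  exact ⟨_, _, hq i r n k h1 (Nat.le_of_ble_eq_true h3) (Nat.le_of_ble_eq_true h5), h6⟩

theorem useE_sound {q i k : ℕ} {K : ℕ → ℕ → Bool} (hq : Known M T ψ g x rr q) (h : useE T q i k K = true) :
    ∃ j d, EF M ψ g x rr i k j d ∧ K j d = true := by
  unfold useE at h
  obtain ⟨h1, h2⟩ := cond_true_of h
  obtain ⟨j, d, h3, h4⟩ := use_sound hq h2
  exact ⟨j, d, h3.1 (Nat.le_of_ble_eq_true h1), h4⟩

theorem useS_sound {q i l : ℕ} {K : ℕ → Bool} (hq : Known M T ψ g x rr q) (h : useS T q i l K = true) :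
    ∃ d, SF M ψ x i d ∧ K d = true := by
  unfold useS at h
  obtain ⟨j, d, h3, h4⟩ := use_sound hq h
  exact ⟨d, h3.2 (by show 395 < 396 + l; omega), h4⟩

variable (X : Ctx M T ψ g x rr)

include X

theorem bget_sound {b : ℕ} {K : ℕ → ℕ → Bool} (h : bget T b K = true) :
    ∃ β φ : C, ψ β * g = g * ψ φ ∧ K (M.cd β) (M.cd φ) = true := by
  unfold bget at h
  obtain ⟨h1, h2⟩ := cond_true_of h
  simp only [force_eq] at h2
  obtain ⟨β, φ, e1, e2, e3⟩ := X.hB b (Nat.le_of_ble_eq_true h1)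
  exact ⟨β, φ, e3, by rw [e1, e2]; exact h2⟩

theorem rget_sound {k : ℕ} {K : ℕ → Bool} (h : rget T k K = true) : k ≤ 395 ∧ K (M.cd (rr k)) = true := by
  unfold rget at h
  obtain ⟨h1, h2⟩ := cond_true_of h
  simp only [force_eq] at h2
  exact ⟨Nat.le_of_ble_eq_true h1, by rw [X.hR k (Nat.le_of_ble_eq_true h1)]; exact h2⟩

theorem pget_sound {k b : ℕ} {K : ℕ → Bool} (h : pget T k b K = true) : ∃ c : C, K (M.cd c) = true := by
  unfold pget at h
  obtain ⟨_, h1⟩ := rget_sound X h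
  obtain ⟨β, φ, _, h2⟩ := bget_sound X h1
  simp only [force_eq] at h2
  rw [M.mul] at h2
  exact ⟨_, h2⟩

omit X in
theorem mulW_sound {i c : ℕ} {w : C} {h : H} {K : ℕ → Bool} (hs : St M ψ x i c h) (hk : mulW c (M.cd w) K = true) :
    ∃ d, St M ψ x i d (h * ψ w) ∧ K d = true := by
  unfold mulW at hk
  cases hb : Nat.beq (M.cd w) idN with
  | true =>
    rw [hb] at hk
    have h1 := Nat.eq_of_beq_eq_true hb
    rw [← M.one] at h1
    have h2 := M.inj h1
    refine ⟨c, ?_, hk⟩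
    rw [h2, map_one, mul_one]
    exact hs
  | false =>
    rw [hb] at hk
    simp only [cond_false, force_eq] at hk
    obtain ⟨a, rfl, h1⟩ := hs
    rw [M.mul] at hk
    refine ⟨_, ⟨a * w, rfl, ?_⟩, hk⟩
    rw [map_mul, ← mul_assoc]
    exact h1.mul _

theorem edge_sound {q i c k b : ℕ} {h : H} {K : ℕ → ℕ → Bool} (hq : Known M T ψ g x rr q) (hs : St M ψ x i c h)
    (hk : edge T q i c k b K = true) : ∃ j d, St M ψ x j d (h * g) ∧ K j d = true := by
  unfold edge at hk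
  obtain ⟨_, h1⟩ := rget_sound X hk
  obtain ⟨β, φ, hβ, h2⟩ := bget_sound X h1
  obtain ⟨h3, h4⟩ := cond_true_of h2
  have h5 := Nat.eq_of_beq_eq_true h3
  obtain ⟨a, rfl, ha⟩ := hs
  rw [M.mul] at h5
  have h6 := M.inj h5
  subst h6
  have h7 : Rl ψ (x i * ψ (rr k) * g * ψ φ) (h * g) := by
    have : x i * ψ (rr k) * g * ψ φ = x i * ψ (rr k * β) * g := by
      rw [map_mul, mul_assoc _ g, ← hβ]; simp only [mul_assoc]
    rw [this]
    exact ha.mul g
  cases hb : Nat.beq i 0 with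
  | true =>
    rw [hb] at h4
    have h8 := Nat.eq_of_beq_eq_true hb
    subst h8
    refine ⟨1, _, ⟨φ, rfl, ?_⟩, h4⟩
    rw [X.x1]
    rw [X.x0, one_mul] at h7
    refine Rl.trans ?_ h7
    exact ((Rl.left (rr k) g).mul _).symm
  | false =>
    rw [hb] at h4
    obtain ⟨j, d, ⟨e, rfl, h8⟩, h9⟩ := useE_sound hq h4
    simp only [force_eq] at h9
    rw [M.mul] at h9
    refine ⟨j, _, ⟨e * φ, rfl, ?_⟩, h9⟩
    rw [map_mul, ← mul_assoc]
    exact (h8.mul (ψ φ)).symm.trans h7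

theorem walk_sound {q : ℕ} {w : C} (n : ℕ) (hq : Known M T ψ g x rr q) : ∀ {s i c : ℕ} {h : H} {K : ℕ → ℕ → Bool},
    St M ψ x i c h → walk T q (M.cd w) n s i c K = true →
    ∃ j d, St M ψ x j d (h * (ψ w * g) ^ n) ∧ K j d = true := by
  induction n with
  | zero =>
    intro s i c h K hs hk
    exact ⟨i, c, by rw [pow_zero, mul_one]; exact hs, hk⟩
  | succ n ih =>
    intro s i c h K hs hk
    replace hk : mulW c (M.cd w) (fun c => edge T q i c (Nat.land s 511) (Nat.land (Nat.shiftRight s 9) 511)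
      fun j d => walk T q (M.cd w) n (Nat.shiftRight s 18) j d K) = true := hk
    obtain ⟨d, h1, h2⟩ := mulW_sound hs hk
    obtain ⟨j, d, h3, h4⟩ := edge_sound X hq h1 h2
    obtain ⟨j, d, h5, h6⟩ := ih h3 h4
    refine ⟨j, d, ?_, h6⟩
    rw [pow_succ']
    have : h * (ψ w * g * (ψ w * g) ^ n) = h * ψ w * g * (ψ w * g) ^ n := by simp only [mul_assoc]
    rw [this]
    exact h5

theorem loop_sound {q : ℕ} {w : C} (n : ℕ) (hq : Known M T ψ g x rr q) : ∀ {s i c : ℕ} {h : H} {K : ℕ → ℕ → Bool},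
    St M ψ x i c h → loop T q (M.cd w) n s i c K = true →
    ∃ j d, St M ψ x j d (h * (g * ψ w) ^ n) ∧ K j d = true := by
  induction n with
  | zero =>
    intro s i c h K hs hk
    exact ⟨i, c, by rw [pow_zero, mul_one]; exact hs, hk⟩
  | succ n ih =>
    intro s i c h K hs hk
    replace hk : edge T q i c (Nat.land s 511) (Nat.land (Nat.shiftRight s 9) 511) (fun j d =>
      mulW d (M.cd w) fun d => loop T q (M.cd w) n (Nat.shiftRight s 18) j d K) = true := hk
    obtain ⟨j, d, h3, h4⟩ := edge_sound X hq hs hk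
    obtain ⟨d, h1, h2⟩ := mulW_sound h3 h4
    obtain ⟨j, d, h5, h6⟩ := ih h1 h2
    refine ⟨j, d, ?_, h6⟩
    rw [pow_succ']
    have : h * (g * ψ w * (g * ψ w) ^ n) = h * g * ψ w * (g * ψ w) ^ n := by simp only [mul_assoc]
    rw [this]
    exact h5

omit [Group C] [Group H] X in
theorem land3 (s : ℕ) : Nat.land s 3 ≤ 3 := by
  show s &&& 3 ≤ 3
  exact Nat.and_le_right

theorem kind0_sound {q i0 k0 j0 d0 s : ℕ} (hq : Known M T ψ g x rr q) (h : kind0 T q i0 k0 j0 d0 s = true) :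
    k0 ≤ 395 ∧ EF M ψ g x rr i0 k0 j0 d0 := by
  unfold kind0 at h
  simp only [force_eq] at h
  obtain ⟨w, hw, hw2⟩ := X.hW (Nat.land s 3) (land3 s)
  rw [← hw] at h
  rw [expo_eq] at h
  replace h := pget_sound X h
  obtain ⟨c0, h⟩ := h
  replace h := bget_sound X h
  obtain ⟨β, φ, hβ, h⟩ := h
  replace h := cond_true_of h
  obtain ⟨h1, h⟩ := h
  obtain rfl := Nat.eq_of_beq_eq_true h1
  replace h := walk_sound X _ hq (h := x j0 * ψ c0) ⟨c0, rfl, Rl.refl _⟩ h
  obtain ⟨i, c, h2, h⟩ := h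
  replace h := cond_true_of h
  obtain ⟨h3, h⟩ := h
  obtain rfl := Nat.eq_of_beq_eq_true h3
  replace h := mulW_sound h2 h
  obtain ⟨d, h4, h⟩ := h
  replace h := cond_true_of h
  obtain ⟨h5, h⟩ := h
  have h6 := Nat.eq_of_beq_eq_true h
  have h7 := Nat.le_of_ble_eq_true h5
  refine ⟨h7, c0 * φ, (M.mul _ _).symm, ?_⟩
  obtain ⟨a, rfl, h8⟩ := h4
  rw [M.mul, ← X.hR k0 h7] at h6
  have h9 := M.inj h6
  rw [← h9]
  have e1 : x i * ψ (a * β) * g = x i * ψ a * g * ψ φ := by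
    rw [map_mul, mul_assoc _ g, ← hβ]; simp only [mul_assoc]
  have e2 : x j0 * ψ (c0 * φ) = x j0 * ψ c0 * (ψ w * g) ^ expo T (Nat.land s 3) * ψ w * g * ψ φ := by
    have : (ψ w * g) ^ expo T (Nat.land s 3) * ψ w * g = 1 := by
      rw [← hw2, pow_succ, mul_assoc]
    rw [map_mul]
    calc x j0 * (ψ c0 * ψ φ) = x j0 * ψ c0 * 1 * ψ φ := by group
      _ = _ := by rw [← this]; simp only [mul_assoc]
  rw [e1, e2]
  exact (h8.mul g).mul _

theorem kind1_sound {q i0 d0 s : ℕ} (hq : Known M T ψ g x rr q) (h : kind1 T q i0 d0 s = true) :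
    SF M ψ x i0 d0 := by
  unfold kind1 at h
  simp only [force_eq] at h
  obtain ⟨w, hw, hw2⟩ := X.hW (Nat.land s 3) (land3 s)
  rw [← hw] at h
  rw [expo_eq] at h
  replace h := pget_sound X h
  obtain ⟨c1, h⟩ := h
  replace h := cond_true_of h
  obtain ⟨h1, h⟩ := h
  obtain rfl := Nat.eq_of_beq_eq_true h1
  replace h := pget_sound X h
  obtain ⟨c0, h⟩ := h
  replace h := loop_sound X _ hq (h := x i0 * ψ c0) ⟨c0, rfl, Rl.refl _⟩ h
  obtain ⟨i, c, h2, h⟩ := h
  replace h := cond_true_of h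
  obtain ⟨h3, h⟩ := h
  obtain rfl := Nat.eq_of_beq_eq_true h3
  have h4 := Nat.eq_of_beq_eq_true h
  obtain ⟨a, rfl, h5⟩ := h2
  rw [M.mul] at h4
  have h6 := M.inj h4
  refine ⟨c1, rfl, ?_⟩
  have e1 : (g * ψ w) ^ (expo T (Nat.land s 3)).succ = 1 := by
    have : g * ψ w = g * (ψ w * g) * g⁻¹ := by group
    rw [this, conj_pow, hw2]
    group
  rw [e1, mul_one, ← h6, map_mul, ← mul_assoc] at h5
  exact h5.cancel

theorem kind3_sound {q i0 k0 j0 d0 s : ℕ} (hq : Known M T ψ g x rr q) (h : kind3 T q i0 k0 j0 d0 s = true) :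
    k0 ≤ 395 ∧ EF M ψ g x rr i0 k0 j0 d0 := by
  unfold kind3 at h
  simp only [force_eq] at h
  replace h := rget_sound X h
  obtain ⟨_, h⟩ := h
  replace h := useS_sound hq h
  obtain ⟨c, ⟨c, rfl, hc⟩, h⟩ := h
  replace h := bget_sound X h
  obtain ⟨β, φ, hβ, h⟩ := h
  replace h := cond_true_of h
  obtain ⟨h1, h⟩ := h
  replace h := cond_true_of h
  obtain ⟨h2, h⟩ := h
  replace h := useE_sound hq h
  obtain ⟨j, d, ⟨d, rfl, h3⟩, h⟩ := h
  replace h := cond_true_of h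
  obtain ⟨h4, h⟩ := h
  obtain rfl := Nat.eq_of_beq_eq_true h4
  have h5 := Nat.eq_of_beq_eq_true h
  have h6 := Nat.eq_of_beq_eq_true h1
  have h7 := Nat.le_of_ble_eq_true h2
  rw [M.mul, M.mul, ← X.hR k0 h7] at h6
  have h8 := M.inj h6
  rw [M.mul] at h5
  refine ⟨h7, _, h5.symm, ?_⟩
  rw [← h8]
  set k := Nat.land s 511
  have e1 : x i0 * ψ (c * rr k * β) * g = x i0 * ψ c * (ψ (rr k) * g * ψ φ) := by
    rw [map_mul, map_mul, mul_assoc _ g, ← hβ]; simp only [mul_assoc]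
  have e2 : x i0 * (ψ (rr k) * g * ψ φ) = x i0 * ψ (rr k) * g * ψ φ := by simp only [mul_assoc]
  have e3 : x j0 * ψ (d * φ) = x j0 * ψ d * ψ φ := by rw [map_mul, mul_assoc]
  rw [e1, e3]
  refine (hc.mul _).trans ?_
  rw [e2]
  exact h3.mul _

omit X in
theorem kind4_sound {q i0 d0 s : ℕ} (hq : Known M T ψ g x rr q) (h : kind4 T q i0 d0 s = true) :
    SF M ψ x i0 d0 := by
  unfold kind4 at h
  simp only [force_eq] at h
  replace h := useS_sound hq h
  obtain ⟨c, ⟨c, rfl, hc⟩, h⟩ := h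
  replace h := useS_sound hq h
  obtain ⟨d, ⟨d, rfl, hd⟩, h⟩ := h
  have h5 := Nat.eq_of_beq_eq_true h
  rw [M.mul] at h5
  refine ⟨_, h5.symm, ?_⟩
  rw [map_mul, ← mul_assoc]
  exact (hc.mul _).trans hd

theorem kind5_sound {q i0 d0 s : ℕ} (hq : Known M T ψ g x rr q) (h : kind5 T q i0 d0 s = true) :
    SF M ψ x i0 d0 := by
  unfold kind5 at h
  simp only [force_eq] at h
  replace h := pget_sound X h
  obtain ⟨c1, h⟩ := h
  replace h := cond_true_of h
  obtain ⟨h1, h⟩ := h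
  obtain rfl := Nat.eq_of_beq_eq_true h1
  replace h := rget_sound X h
  obtain ⟨_, h⟩ := h
  replace h := rget_sound X h
  obtain ⟨_, h⟩ := h
  replace h := bget_sound X h
  obtain ⟨β, φ, hβ, h⟩ := h
  replace h := useS_sound hq h
  obtain ⟨c, ⟨c, rfl, hc⟩, h⟩ := h
  replace h := cond_true_of h
  obtain ⟨h2, h⟩ := h
  replace h := useE_sound hq h
  obtain ⟨j, d, ⟨d, rfl, h3⟩, h⟩ := h
  replace h := useE_sound hq h
  obtain ⟨j2, d2, ⟨d2, rfl, h4⟩, h⟩ := h
  replace h := cond_true_of h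
  obtain ⟨h5, h⟩ := h
  obtain rfl := Nat.eq_of_beq_eq_true h5
  replace h := cond_true_of h
  obtain ⟨h5, h⟩ := h
  obtain rfl := Nat.eq_of_beq_eq_true h5
  have h6 := Nat.eq_of_beq_eq_true h
  have h7 := Nat.eq_of_beq_eq_true h2
  rw [M.mul, M.mul] at h6 h7
  have h8 := M.inj h6
  have h9 := M.inj h7
  refine ⟨c1, rfl, ?_⟩
  set k := Nat.land (Nat.shiftRight s 25) 511
  set k2 := Nat.land (Nat.shiftRight s 34) 511
  set i := Nat.land (Nat.shiftRight s 18) 127
  rw [← h9] at h4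
  rw [← h8] at h4
  have e1 : x i * ψ (c * rr k * β) * g = x i * ψ c * (ψ (rr k) * g * ψ φ) := by
    rw [map_mul, map_mul, mul_assoc _ g, ← hβ]; simp only [mul_assoc]
  have e2 : x i * (ψ (rr k) * g * ψ φ) = x i * ψ (rr k) * g * ψ φ := by simp only [mul_assoc]
  rw [e1] at h4
  have h10 := (hc.mul (ψ (rr k) * g * ψ φ)).symm.trans h4
  rw [e2] at h10
  have h11 := (h3.mul (ψ φ)).symm.trans h10
  rw [map_mul, map_mul, ← mul_assoc, ← mul_assoc, mul_assoc (x j2) (ψ d), mul_assoc (x j2 * ψ c1) (ψ d)] at h11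
  exact h11.symm.cancel

theorem kind6_sound {q i0 d0 s : ℕ} (hq : Known M T ψ g x rr q) (h : kind6 T q i0 d0 s = true) :
    SF M ψ x i0 d0 := by
  unfold kind6 at h
  simp only [force_eq] at h
  replace h := pget_sound X h
  obtain ⟨c1, h⟩ := h
  replace h := cond_true_of h
  obtain ⟨h1, h⟩ := h
  obtain rfl := Nat.eq_of_beq_eq_true h1
  replace h := rget_sound X h
  obtain ⟨_, h⟩ := h
  replace h := rget_sound X h
  obtain ⟨_, h⟩ := h
  replace h := bget_sound X h
  obtain ⟨β, φ, hβ, h⟩ := h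
  replace h := cond_true_of h
  obtain ⟨h2, h⟩ := h
  replace h := useE_sound hq h
  obtain ⟨j, d, ⟨d, rfl, h3⟩, h⟩ := h
  replace h := useE_sound hq h
  obtain ⟨j2, d2, ⟨d2, rfl, h4⟩, h⟩ := h
  replace h := cond_true_of h
  obtain ⟨h5, h⟩ := h
  have h5' := Nat.eq_of_beq_eq_true h5
  replace h := cond_true_of h
  obtain ⟨h6, h⟩ := h
  have h6' := Nat.eq_of_beq_eq_true h6
  have h7 := Nat.eq_of_beq_eq_true h2
  rw [M.mul, M.mul] at h7
  have h9 := M.inj h7
  refine ⟨c1, rfl, ?_⟩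
  set k := Nat.land (Nat.shiftRight s 25) 511
  set k2 := Nat.land (Nat.shiftRight s 34) 511
  set jj := Nat.land (Nat.shiftRight s 18) 127
  subst h5'
  rw [h6'] at h4
  -- `x_i r_k β g ~ x_j d φ`
  have e1 : x i0 * ψ (rr k * β) * g = x i0 * ψ (rr k) * g * ψ φ := by
    rw [map_mul, mul_assoc _ g, ← hβ]; simp only [mul_assoc]
  have h10 : Rl ψ (x i0 * ψ (rr k * β) * g) (x jj * ψ (d * φ)) := by
    rw [e1, map_mul, ← mul_assoc]
    exact h3.mul _
  have h11 : Rl ψ (x jj * ψ (d * φ)) (x jj * ψ d2) := by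
    cases hb : Nat.beq jj 0 with
    | true =>
      have h8 := Nat.eq_of_beq_eq_true hb
      rw [h8, X.x0, one_mul, one_mul]
      unfold Rl
      exact mul_mem ⟨_, rfl⟩ (inv_mem ⟨_, rfl⟩)
    | false =>
      rw [hb] at h
      replace h := useS_sound hq h
      obtain ⟨c, ⟨c, rfl, hc⟩, h⟩ := h
      have h12 := Nat.eq_of_beq_eq_true h
      rw [M.mul, M.mul] at h12
      have h13 := M.inj h12
      rw [← h13, map_mul ψ c, ← mul_assoc]
      exact (hc.mul _).symm
  have h12 := (h10.trans h11).trans h4.symm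
  have h13 := h12.cancel
  rw [← h9, mul_assoc, map_mul ψ c1, ← mul_assoc] at h13
  exact h13.cancel.symm

theorem kind9_sound {i0 k0 j0 d0 : ℕ} (h : kind9 T i0 k0 j0 d0 = true) : EF M ψ g x rr i0 k0 j0 d0 := by
  unfold kind9 at h
  replace h := cond_true_of h
  obtain ⟨h1, h⟩ := h
  obtain rfl := Nat.eq_of_beq_eq_true h1
  have h2 := X.xp _ _ _ _ (Nat.zero_le _) h
  refine ⟨1, M.one, ?_⟩
  rw [if_pos rfl] at h2
  rw [h2, map_one, mul_one]
  exact Rl.refl _

theorem kind10_sound {i0 k0 j0 d0 s : ℕ} (h0 : rr 0 = 1) (h : kind10 T i0 k0 j0 d0 s = true) :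
    EF M ψ g x rr i0 k0 j0 d0 := by
  unfold kind10 at h
  replace h := cond_true_of h
  obtain ⟨h1, h⟩ := h
  obtain rfl := Nat.eq_of_beq_eq_true h1
  replace h := cond_true_of h
  obtain ⟨h1, h⟩ := h
  obtain rfl := Nat.eq_of_beq_eq_true h1
  have h2 := X.xp _ _ _ _ (le_refl 1) h
  have h3 : s ≤ 395 := by
    unfold isPar at h
    replace h := cond_true_of h
    obtain ⟨_, h⟩ := h
    obtain ⟨h, _⟩ := cond_true_of h
    exact Nat.le_of_ble_eq_true h
  refine ⟨rr s, X.hR s h3, ?_⟩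
  rw [if_neg one_ne_zero] at h2
  rw [h2, h0, map_one, mul_one, inv_mul_cancel_right]
  exact Rl.refl _

theorem kind7_sound {i0 d0 s : ℕ} (h : kind7 T i0 d0 s = true) : SF M ψ x i0 d0 := by
  unfold kind7 at h
  replace h := cond_true_of h
  obtain ⟨h1, h⟩ := h
  obtain rfl := Nat.eq_of_beq_eq_true h1
  replace h := bget_sound X h
  obtain ⟨β, φ, hβ, h⟩ := h
  have h2 := Nat.eq_of_beq_eq_true h
  refine ⟨φ, h2.symm, ?_⟩
  rw [X.x1, ← hβ]
  exact Rl.left _ _

omit X in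
theorem selE_sound {e : ℕ} {a3 a0 a9 a10 : Bool} (h : selE e a3 a0 a9 a10 = true) :
    a3 = true ∨ a0 = true ∨ a9 = true ∨ a10 = true := by
  unfold selE at h
  cases h1 : Nat.beq e 3 <;> cases h2 : Nat.beq e 0 <;> cases h3 : Nat.beq e 9 <;> cases h4 : Nat.beq e 10 <;>
    simp_all

omit X in
theorem selS_sound {e : ℕ} {a4 a1 a5 a6 a7 a8 : Bool} (h : selS e a4 a1 a5 a6 a7 a8 = true) :
    a4 = true ∨ a1 = true ∨ a5 = true ∨ a6 = true ∨ a7 = true ∨ a8 = true := by
  unfold selS at h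
  cases h1 : Nat.beq e 4 <;> cases h2 : Nat.beq e 1 <;> cases h3 : Nat.beq e 5 <;> cases h4 : Nat.beq e 6 <;>
    cases h5 : Nat.beq e 7 <;> cases h6 : Nat.beq e 8 <;> simp_all

theorem chk_sound (h0 : rr 0 = 1) {i k r s : ℕ} (hq : Known M T ψ g x rr (Nat.shiftRight (slot r k) 56))
    (h : chk T i k r s = true) : FactOf M ψ g x rr i k (Nat.land (Nat.shiftRight (slot r k) 49) 127)
      (Nat.land (slot r k) 0x1ffffffffffff) ∧ (k ≤ 395 → Nat.land (Nat.shiftRight (slot r k) 49) 127 ≤ 60) := by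
  unfold chk at h
  simp only [force_eq] at h
  cases hk : Nat.ble k 395 with
  | true =>
    rw [hk, cond_true] at h
    replace h := cond_true_of h
    obtain ⟨h1, h⟩ := h
    have hk' := Nat.le_of_ble_eq_true hk
    have h1' := Nat.le_of_ble_eq_true h1
    refine ⟨⟨fun _ => ?_, fun h => absurd h (by omega)⟩, fun _ => h1'⟩
    rcases selE_sound h with h | h | h | h
    · exact (kind3_sound X hq h).2
    · exact (kind0_sound X hq h).2
    · exact kind9_sound X h
    · exact kind10_sound X h0 h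
  | false =>
    rw [hk, cond_false] at h
    have hk' : 395 < k := by
      by_contra hc
      rw [Nat.ble_eq_true_of_le (by omega)] at hk
      exact absurd hk (by simp)
    refine ⟨⟨fun h => absurd h (by omega), fun _ => ?_⟩, fun h => absurd h (by omega)⟩
    rcases selS_sound h with h | h | h | h | h | h
    · exact kind4_sound hq h
    · exact kind1_sound X hq h
    · exact kind5_sound X hq h
    · exact kind6_sound X hq h
    · exact kind7_sound X h
    · refine ⟨1, ?_, ?_⟩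
      · rw [Nat.eq_of_beq_eq_true h]; exact M.one
      · rw [map_one, mul_one]; exact Rl.refl _

omit X in
theorem chkRow_sound {i r : ℕ} (l : List ℕ) : ∀ {k : ℕ}, chkRow T i r l k = true →
    ∀ m < l.length, ∃ s, chk T i (k + m) r s = true := by
  induction l with
  | nil => intro k _ m hm; exact absurd hm (by simp)
  | cons s l ih =>
    intro k h m hm
    replace h : cond (chk T i k r s) (chkRow T i r l (k + 1)) false = true := h
    obtain ⟨h1, h2⟩ := cond_true_of h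
    cases m with
    | zero => exact ⟨s, h1⟩
    | succ m =>
      obtain ⟨s', hs⟩ := ih h2 m (by rw [List.length_cons] at hm; omega)
      exact ⟨s', by rw [show k + (m + 1) = k + 1 + m by omega]; exact hs⟩

omit X in
theorem rowOK_sound {i : ℕ} {l : List ℕ} (h : rowOK T i l = true) {r n : ℕ} (hf : find T.rows i = some (r, n)) :
    396 ≤ n ∧ ∀ k < n, ∃ s, chk T i k r s = true := by
  unfold rowOK at h
  obtain ⟨r', n', h1, h2⟩ := look_sound h
  rw [hf] at h1
  obtain ⟨rfl, rfl⟩ := Prod.mk.inj (Option.some.inj h1)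
  obtain ⟨h3, h⟩ := cond_true_of h2
  replace h := cond_true_of h
  obtain ⟨h4, h⟩ := h
  have h5 := Nat.eq_of_beq_eq_true h3
  refine ⟨Nat.le_of_ble_eq_true h4, fun k hk => ?_⟩
  obtain ⟨s, hs⟩ := chkRow_sound l h k (by rw [h5]; exact hk)
  exact ⟨s, by rw [Nat.zero_add] at hs; exact hs⟩

/-- **Soundness**: all facts hold. -/
theorem known (h0 : rr 0 = 1) (hrows : ∀ i r n, find T.rows i = some (r, n) → n = 0 ∨ ∃ l, rowOK T i l = true)
    (q : ℕ) : Known M T ψ g x rr q := by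
  induction q with
  | zero => intro i r n k _ _ h; exact absurd h (by simp)
  | succ q ih =>
    intro i r n k hf hk hr
    rcases hrows i r n hf with rfl | ⟨l, hl⟩
    · exact absurd hk (by simp)
    · obtain ⟨s, hs⟩ := (rowOK_sound hl hf).2 k hk
      have : Known M T ψ g x rr (Nat.shiftRight (slot r k) 56) := by
        intro i' r' n' k' hf' hk' hr'
        exact ih i' r' n' k' hf' hk' (by omega)
      exact (chk_sound X h0 this hs).1

end Sem

end Cfsg.Agent.CoThreeStd.DC.Sound
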